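import Mathlib

/-!
# Truncations and triangulated subcategories compatible with a t-structure
-/

set_option autoImplicit false
set_option linter.style.haveILetI false
set_option backward.isDefEq.respectTransparency false

universe v u

open CategoryTheory CategoryTheory.Limits Pretriangulated Triangulated

noncomputable section

namespace Groth.Agent.VerdierTLib

variable {C : Type u} [Category.{v} C] [Preadditive C] [HasZeroObject C] [HasShift C ℤ]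
  [∀ n : ℤ, (shiftFunctor C n).Additive] [Pretriangulated C] [IsTriangulated C]
  (t : TStructure C) (D : ObjectProperty C) [D.IsTriangulated] [D.IsClosedUnderIsomorphisms]

variable (hb : ∀ X : C, t.bounded X) (h1 : ∀ X : C, D X → ∀ n : ℤ, D ((t.truncGELE n n).obj X))

include hb h1 in
theorem truncLT_mem (X : C) (hX : D X) (b : ℤ) : D ((t.truncLT b).obj X) := by
  obtain ⟨⟨a, ha⟩, -⟩ := hb X
  have key : ∀ k : ℕ, D ((t.truncLT (a + k)).obj X) := by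
    intro k
    induction k with
    | zero =>
      haveI : t.IsGE X (a + (0 : ℕ)) := by simpa using ha
      exact D.prop_of_isZero (t.isZero_truncLT_obj_of_isGE (a + (0 : ℕ)) X)
    | succ k ih =>
      let Y := (t.truncLT (a + (k + 1 : ℕ))).obj X
      have hT := t.triangleLTGE_distinguished (a + k) Y
      haveI := t.isIso_truncLT_map_truncLTι_app (a + k) (a + (k + 1 : ℕ)) (by omega) X
      refine D.ext_of_isTriangulatedClosed₂ _ hT ?_ ?_
      · exact D.prop_of_iso (asIso ((t.truncLT (a + k)).map ((t.truncLTι (a + (k + 1 : ℕ))).app X))).symm ih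
      · exact D.prop_of_iso ((t.truncGELEIsoTruncGELT (a + k) (a + k) (a + (k + 1 : ℕ)) (by omega)).app X) (h1 X hX _)
  rcases le_or_gt a b with h | h
  · obtain ⟨k, hk⟩ : ∃ k : ℕ, b = a + k := ⟨(b - a).toNat, by omega⟩
    exact hk ▸ key k
  · haveI := ha
    haveI := t.isGE_of_ge X b a (by omega)
    exact D.prop_of_isZero (t.isZero_truncLT_obj_of_isGE b X)

include hb h1 in
theorem truncGE_mem (X : C) (hX : D X) (b : ℤ) : D ((t.truncGE b).obj X) :=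
  D.ext_of_isTriangulatedClosed₃ _ (t.triangleLTGE_distinguished b X) (truncLT_mem t D hb h1 X hX b) hX

variable (h2 : ∀ (X Y Z : C) (f : X ⟶ Y) (g : Y ⟶ Z) (h : Z ⟶ X⟦(1 : ℤ)⟧),
      Triangle.mk f g h ∈ distTriang C → t.heart X → t.heart Y → t.heart Z → D Y → D X ∧ D Z)

include hb h1 h2 in
/-- The part in positive degrees of an object equivalent to a nonpositive one lies in `D`. -/
theorem truncGE_one_mem {X' X : C} (s : X' ⟶ X) (hs : D.trW s) [t.IsLE X 0] :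
    D ((t.truncGE 1).obj X') := by
  obtain ⟨Z, g, h, mem, hZ⟩ := (D.trW_iff s).1 hs
  let T := (Triangle.mk s g h).invRotate
  have hT : T ∈ distTriang C := inv_rot_of_distTriang _ mem
  let k : T.obj₁ ⟶ X' := T.mor₁
  have hks : k ≫ s = 0 := comp_distTriang_mor_zero₁₂ T hT
  have hD : D T.obj₁ := D.le_shift (-1 : ℤ) Z hZ
  let U := (t.truncGE 1).obj T.obj₁
  let V := (t.truncGE 1).obj X'
  haveI hU1 : t.IsGE U 1 := t.isGE_truncGE_obj T.obj₁ 1 1
  haveI hV1 : t.IsGE V 1 := t.isGE_truncGE_obj X' 1 1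
  have hUD : D U := truncGE_mem t D hb h1 _ hD 1
  let u : U ⟶ V := (t.truncGE 1).map k
  have hu : (t.truncGEπ 1).app T.obj₁ ≫ u = k ≫ (t.truncGEπ 1).app X' := ((t.truncGEπ 1).naturality k).symm
  have ha : ∀ (S : C) [t.IsGE S 1] (f : V ⟶ S), u ≫ f = 0 → f = 0 := fun S _ f hf => by
    apply t.from_truncGE_obj_ext
    rw [comp_zero]
    obtain ⟨e, he⟩ := Triangle.yoneda_exact₂ T hT ((t.truncGEπ 1).app X' ≫ f) (by
      show k ≫ _ = 0
      rw [← Category.assoc, ← hu, Category.assoc, hf, comp_zero])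
    haveI : t.IsLE T.obj₃ 0 := ‹t.IsLE X 0›
    rw [t.zero e 0 1, comp_zero] at he
    exact he
  have hb' : ∀ (S : C) [t.IsGE S 2] (g' : U ⟶ S), ∃ f : V ⟶ S, u ≫ f = g' := fun S _ g' => by
    have hT2 := inv_rot_of_distTriang _ hT
    haveI : t.IsLE T.invRotate.obj₁ 1 := by
      haveI : t.IsLE T.obj₃ 0 := ‹t.IsLE X 0›
      exact t.isLE_shift T.obj₃ 0 (-1) 1
    obtain ⟨e, he⟩ := Triangle.yoneda_exact₂ T.invRotate hT2 ((t.truncGEπ 1).app T.obj₁ ≫ g')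
      (t.zero _ 1 2)
    haveI : t.IsGE S 1 := t.isGE_of_ge S 1 2
    refine ⟨t.descTruncGE e 1, t.from_truncGE_obj_ext ?_⟩
    rw [← Category.assoc, hu, Category.assoc, t.π_descTruncGE]
    exact he.symm
  obtain ⟨W, v, w, hW⟩ := distinguished_cocone_triangle u
  have hUW : w ≫ u⟦(1 : ℤ)⟧' = 0 := comp_distTriang_mor_zero₃₁ _ hW
  haveI hWle : t.IsLE W 0 := by
    rw [t.isLE_iff_orthogonal 0 1 (by omega)]
    intro S f hS
    haveI := hS
    have hvf : v ≫ f = 0 := ha S (v ≫ f) (by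
      rw [← Category.assoc, show u ≫ v = 0 from comp_distTriang_mor_zero₁₂ _ hW, zero_comp])
    obtain ⟨g', hg'⟩ := Triangle.yoneda_exact₃ _ hW f hvf
    let c := (shiftFunctorCompIsoId C (-1 : ℤ) 1 (by omega)).app S
    obtain ⟨g'', hg''⟩ := (shiftFunctor C (1 : ℤ)).map_surjective (g' ≫ c.inv)
    haveI : t.IsGE (S⟦(-1 : ℤ)⟧) 2 := t.isGE_shift S 1 (-1) 2
    obtain ⟨f', hf'⟩ := hb' (S⟦(-1 : ℤ)⟧) g''
    have : g' = u⟦(1 : ℤ)⟧' ≫ f'⟦(1 : ℤ)⟧' ≫ c.hom := by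
      rw [← Functor.map_comp_assoc, hf', hg'']
      simp
    rw [hg', this]
    show w ≫ _ = 0
    rw [← Category.assoc, hUW, zero_comp]
  haveI hUs : t.IsGE (U⟦(1 : ℤ)⟧) 0 := t.isGE_shift U 1 1 0
  haveI hWge : t.IsGE W 0 :=
    t.isGE₂ _ (rot_of_distTriang _ hW) 0 (t.isGE_of_ge V 0 1) hUs
  let U₀ := (t.truncLT 1).obj (U⟦(1 : ℤ)⟧)
  let U₁ := (t.truncGE 1).obj (U⟦(1 : ℤ)⟧)
  have hU01 := t.triangleLTGE_distinguished 1 (U⟦(1 : ℤ)⟧)
  haveI hU₀le : t.IsLE U₀ 0 := t.isLE_truncLT_obj (U⟦(1 : ℤ)⟧) 1 0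
  haveI : t.IsGE U₁ 1 := t.isGE_truncGE_obj (U⟦(1 : ℤ)⟧) 1 1
  haveI hU₀ge : t.IsGE U₀ 0 :=
    t.isGE₂ _ (inv_rot_of_distTriang _ hU01) 0
      (by
        haveI := t.isGE_shift U₁ 1 (-1) 2
        exact t.isGE_of_ge (U₁⟦(-1 : ℤ)⟧) 0 2) hUs
  let a : W ⟶ U₀ := t.liftTruncLT w 0 1 (by omega)
  have hcomm : a ≫ (t.truncLTι 1).app (U⟦(1 : ℤ)⟧) = w := t.liftTruncLT_ι w 0 1 (by omega)
  obtain ⟨C₀, b, c, hC⟩ := distinguished_cocone_triangle a
  let o := someOctahedron hcomm hC hU01 (rot_of_distTriang _ (rot_of_distTriang _ hW))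
  haveI hC₀ge : t.IsGE C₀ 0 := by
    refine t.isGE₂ _ (inv_rot_of_distTriang _ o.mem) 0 ?_ ?_
    · haveI := t.isGE_shift U₁ 1 (-1) 2
      exact t.isGE_of_ge (U₁⟦(-1 : ℤ)⟧) 0 2
    · exact t.isGE_shift V 1 1 0
  haveI hC₀le : t.IsLE C₀ 0 := by
    refine t.isLE₂ _ (rot_of_distTriang _ hC) 0 hU₀le ?_
    haveI := t.isLE_shift W 0 1 (-1)
    exact t.isLE_of_le (W⟦(1 : ℤ)⟧) (-1) 0
  have hU₀D : D U₀ := truncLT_mem t D hb h1 _ (D.le_shift (1 : ℤ) U hUD) 1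
  have hWD : D W := (h2 W U₀ C₀ a b c hC ((t.mem_heart_iff W).2 ⟨hWle, hWge⟩)
    ((t.mem_heart_iff U₀).2 ⟨hU₀le, hU₀ge⟩) ((t.mem_heart_iff C₀).2 ⟨hC₀le, hC₀ge⟩) hU₀D).1
  exact D.ext_of_isTriangulatedClosed₂ _ hW hUD hWD

end Groth.Agent.VerdierTLib
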